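/-
helper69: entrywise application of a ring homomorphism to the matrices of root elements and of words in them.
-/
import Cfsg.Prelude.Def_ChevAutomorphisms

set_option autoImplicit false

namespace Cfsg.Agent.Lib.Helper69.ChevMap

open Cfsg.Lie

universe u v

variable {K : Type u} {F : Type v} [Field K] [Field F] {D : ChevalleyDatum}

theorem map_list_sum_mul_pow (f : K →+* F) (t : K) (l : List (ℕ × ℤ)) :
    f ((l.map fun km => ((km.2 : ℤ) : K) * t ^ km.1).sum)
      = (l.map fun km => ((km.2 : ℤ) : F) * (f t) ^ km.1).sum := by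
  induction l with
  | nil => simp
  | cons a l ih =>
    rw [List.map_cons, List.sum_cons, map_add, ih, List.map_cons, List.sum_cons, map_mul, map_intCast, map_pow]

/-- Entrywise application of a ring homomorphism to `x_r(t)`. -/
theorem xMat_map (f : K →+* F) (r : Fin D.nroots) (t : K) :
    (D.xMat K r t).map f = D.xMat F r (f t) := by
  ext row col
  rw [Matrix.map_apply]
  unfold ChevalleyDatum.xMat
  simp only [Matrix.of_apply]
  rcases col with i | s
  · rcases row with i' | u'
    · simp only
      split_ifs <;> simp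
    · simp only
      split_ifs <;> simp
  · simp only
    by_cases h1 : s = r
    · rw [if_pos h1, if_pos h1]
      rcases row with i' | u'
      · simp
      · simp only
        split_ifs <;> simp
    · rw [if_neg h1, if_neg h1]
      by_cases h2 : s.val = D.negIdx.getD r.val 0
      · rw [if_pos h2, if_pos h2]
        rcases row with i' | u'
        · simp
        · simp only
          split_ifs <;> simp
      · rw [if_neg h2, if_neg h2]
        rcases row with i' | u'
        · simp
        · simp only
          rw [map_add, map_list_sum_mul_pow]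
          split_ifs <;> simp

theorem x_map (f : K →+* F) (r : ℕ) (t : K) : (D.x K r t).map f = D.x F r (f t) := by
  unfold ChevalleyDatum.x
  split_ifs with h
  · exact xMat_map f ⟨r, h⟩ t
  · exact Matrix.map_one f (map_zero f) (map_one f)

theorem wordMat_map (f : K →+* F) (w : List (ℕ × K)) :
    (D.wordMat K w).map f = D.wordMat F (w.map fun p => (p.1, f p.2)) := by
  unfold ChevalleyDatum.wordMat
  induction w with
  | nil => simp
  | cons a w ih =>
    rw [List.map_cons, List.prod_cons, Matrix.map_mul, ih, x_map, List.map_cons, List.map_cons, List.prod_cons]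

theorem nMat_map (f : K →+* F) (r : ℕ) (t : K) : (D.nMat K r t).map f = D.nMat F r (f t) := by
  unfold ChevalleyDatum.nMat ChevalleyDatum.nWord
  rw [wordMat_map]
  simp [map_neg, map_inv₀]

theorem hMat_map (f : K →+* F) (r : ℕ) (t : K) : (D.hMat K r t).map f = D.hMat F r (f t) := by
  unfold ChevalleyDatum.hMat ChevalleyDatum.hWord ChevalleyDatum.nWord
  rw [wordMat_map]
  simp [map_neg, map_inv₀]


/-! ### The induced map on general linear groups and the standard subgroups -/

open scoped MatrixGroups

/-- Entrywise application of a ring homomorphism, on general linear groups. -/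
noncomputable abbrev glMap (D : ChevalleyDatum) (f : K →+* F) : GL D.Idx K →* GL D.Idx F :=
  Matrix.GeneralLinearGroup.map f

theorem coe_glMap (f : K →+* F) (g : GL D.Idx K) :
    ((glMap D f g : GL D.Idx F) : Matrix D.Idx D.Idx F) = (g : Matrix D.Idx D.Idx K).map f := rfl

theorem map_closure_le (f : K →+* F) (S : Set (GL D.Idx K)) (T : Set (GL D.Idx F))
    (h : ∀ g ∈ S, glMap D f g ∈ T) : (Subgroup.closure S).map (glMap D f) ≤ Subgroup.closure T := by
  rw [Subgroup.map_le_iff_le_comap, Subgroup.closure_le]
  intro g hg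
  exact Subgroup.subset_closure (h g hg)

theorem map_group_le (f : K →+* F) : (D.group K).map (glMap D f) ≤ D.group F := by
  apply map_closure_le
  rintro g ⟨r, t, hg⟩
  exact ⟨r, f t, by rw [coe_glMap, hg, xMat_map]⟩

theorem map_rootSubgroup_le (f : K →+* F) (r : ℕ) :
    (D.rootSubgroup K r).map (glMap D f) ≤ D.rootSubgroup F r := by
  apply map_closure_le
  rintro g ⟨t, hg⟩
  exact ⟨f t, by rw [coe_glMap, hg, x_map]⟩

theorem map_posUnipotent_le (f : K →+* F) : (D.posUnipotent K).map (glMap D f) ≤ D.posUnipotent F := by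
  apply map_closure_le
  rintro g ⟨r, t, hr, hg⟩
  exact ⟨r, f t, hr, by rw [coe_glMap, hg, x_map]⟩

theorem map_negUnipotent_le (f : K →+* F) : (D.negUnipotent K).map (glMap D f) ≤ D.negUnipotent F := by
  apply map_closure_le
  rintro g ⟨r, t, hr, hg⟩
  exact ⟨r, f t, hr, by rw [coe_glMap, hg, x_map]⟩

theorem map_diagonal_le (f : K →+* F) : (D.diagonalSubgroup K).map (glMap D f) ≤ D.diagonalSubgroup F := by
  apply map_closure_le
  rintro g ⟨r, t, hr, ht, hg⟩
  exact ⟨r, f t, hr, (map_ne_zero f).mpr ht, by rw [coe_glMap, hg, hMat_map]⟩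

theorem map_monomial_le (f : K →+* F) : (D.monomialSubgroup K).map (glMap D f) ≤ D.monomialSubgroup F := by
  unfold ChevalleyDatum.monomialSubgroup
  rw [Subgroup.map_sup]
  apply sup_le_sup (map_diagonal_le f)
  apply map_closure_le
  rintro g ⟨r, hr, hg⟩
  exact ⟨r, hr, by rw [coe_glMap, hg, nMat_map, map_one]⟩

theorem map_borel_le (f : K →+* F) : (D.borelSubgroup K).map (glMap D f) ≤ D.borelSubgroup F := by
  unfold ChevalleyDatum.borelSubgroup
  rw [Subgroup.map_sup]
  exact sup_le_sup (map_posUnipotent_le f) (map_diagonal_le f)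

theorem glMap_injective (f : K →+* F) : Function.Injective (glMap D f) := by
  intro g g' h
  apply Units.ext
  ext i j
  have := congrArg (fun x : GL D.Idx F => (x : Matrix D.Idx D.Idx F) i j) h
  simp only [coe_glMap, Matrix.map_apply] at this
  exact f.injective this

theorem glMap_comp {E : Type*} [Field E] (f : K →+* F) (f' : F →+* E) (g : GL D.Idx K) :
    glMap D f' (glMap D f g) = glMap D (f'.comp f) g := rfl

/-- A field automorphism of the Chevalley group is the entrywise application of the field automorphism. -/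
theorem fieldAut_eq_glMap (φ : ↥(D.group F) ≃* ↥(D.group F)) (σ : F ≃+* F)
    (hσ : ∀ (g : ↥(D.group F)) (r : ℕ) (t : F), r < D.nroots →
      ((g : GL D.Idx F) : Matrix D.Idx D.Idx F) = D.x F r t →
        ((φ g : GL D.Idx F) : Matrix D.Idx D.Idx F) = D.x F r (σ t))
    (g : ↥(D.group F)) : ((φ g : ↥(D.group F)) : GL D.Idx F) = glMap D (σ : F →+* F) g := by
  obtain ⟨g, hg⟩ := g
  have key : ∀ (hg' : g ∈ D.group F), ((φ ⟨g, hg'⟩ : ↥(D.group F)) : GL D.Idx F) = glMap D (σ : F →+* F) g := by
    unfold ChevalleyDatum.group at hg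
    induction hg using Subgroup.closure_induction with
    | mem x hx =>
      intro hx'
      obtain ⟨r, t, hxm⟩ := hx
      have hx2 : ((x : GL D.Idx F) : Matrix D.Idx D.Idx F) = D.x F r.val t := by
        rw [hxm]
        unfold ChevalleyDatum.x
        rw [dif_pos r.2]
      apply Units.ext
      rw [hσ ⟨x, hx'⟩ r.val t r.2 hx2, coe_glMap, hx2, x_map]
      rfl
    | one =>
      intro h1
      have : (⟨1, h1⟩ : ↥(D.group F)) = 1 := rfl
      rw [this, map_one, map_one]
      rfl
    | mul x y hx hy ihx ihy =>
      intro hxy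
      have hx' : x ∈ D.group F := hx
      have hy' : y ∈ D.group F := hy
      have : (⟨x * y, hxy⟩ : ↥(D.group F)) = ⟨x, hx'⟩ * ⟨y, hy'⟩ := rfl
      rw [this, map_mul, Subgroup.coe_mul, ihx hx', ihy hy', map_mul]
    | inv x hx ihx =>
      intro hxi
      have hx' : x ∈ D.group F := hx
      have : (⟨x⁻¹, hxi⟩ : ↥(D.group F)) = (⟨x, hx'⟩)⁻¹ := rfl
      rw [this, map_inv, Subgroup.coe_inv, ihx hx', map_inv]
  exact key hg

end Cfsg.Agent.Lib.Helper69.ChevMap
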