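import Mathlib
import Cfsg.Prelude.Def_GeometricClasses
import Cfsg.Agent.Lib.Helper99.AschDefs
import Cfsg.Agent.Lib.Helper23.AschSpDefs

/-!
# ASCHSP-[ADJ] (helper23 sheet, S5662): the adjoint `adjMat f k = G⁻¹ kᵀ G` of a matrix for a symplectic form

Self-contained: the two facts of [PERP] that are needed (`f u v = u ⬝ᵥ G *ᵥ v`, `det G ≠ 0`) are proved here
in the auxiliary namespace `Cfsg.Agent.Lib.Helper69.AschSpAdj` (as `form_eq_gram'`, `gram_det_ne_zero'`).
-/

set_option autoImplicit false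

namespace Cfsg.Agent.Lib.Helper69.AschSpAdj

open Cfsg Cfsg.Geo Cfsg.Agent.Lib.Helper99.Asch Cfsg.Agent.Lib.Helper23.AschSp
open scoped MatrixGroups Matrix Kronecker

variable {n : ℕ} {F : Type*} [Field F] {f : (Fin n → F) → (Fin n → F) → F}

theorem zero_left (hf : IsBilinearForm f) (v : Fin n → F) : f 0 v = 0 := by
  have := hf.smul_left 0 0 v
  rw [zero_smul, zero_mul] at this
  exact this

theorem zero_right (hf : IsBilinearForm f) (v : Fin n → F) : f v 0 = 0 := by
  have := hf.smul_right 0 v 0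
  rw [zero_smul, zero_mul] at this
  exact this

theorem sum_left (hf : IsBilinearForm f) {κ : Type*} (s : Finset κ) (c : κ → F) (x : κ → (Fin n → F))
    (v : Fin n → F) : f (∑ i ∈ s, c i • x i) v = ∑ i ∈ s, c i * f (x i) v := by
  classical
  induction s using Finset.induction_on with
  | empty => simp [zero_left hf]
  | insert a s ha ih => rw [Finset.sum_insert ha, Finset.sum_insert ha, hf.add_left, hf.smul_left, ih]

theorem sum_right (hf : IsBilinearForm f) {κ : Type*} (s : Finset κ) (c : κ → F) (x : κ → (Fin n → F))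
    (v : Fin n → F) : f v (∑ i ∈ s, c i • x i) = ∑ i ∈ s, c i * f v (x i) := by
  classical
  induction s using Finset.induction_on with
  | empty => simp [zero_right hf]
  | insert a s ha ih => rw [Finset.sum_insert ha, Finset.sum_insert ha, hf.add_right, hf.smul_right, ih]

/-- `f u v = u ⬝ᵥ G *ᵥ v` (this is `form_eq_gram` of [PERP]) -/
theorem form_eq_gram' (hf : IsBilinearForm f) (u v : Fin n → F) :
    f u v = u ⬝ᵥ (gramMatrix f *ᵥ v) := by
  conv_lhs => rw [pi_eq_sum_univ' u, pi_eq_sum_univ' v]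
  rw [sum_left hf]
  simp only [sum_right hf]
  simp only [dotProduct, Matrix.mulVec, gramMatrix]
  refine Finset.sum_congr rfl fun a _ => ?_
  congr 1
  refine Finset.sum_congr rfl fun b _ => ?_
  ring

theorem sub_right (hf : IsBilinearForm f) (v x y : Fin n → F) : f v (x - y) = f v x - f v y := by
  have h := hf.add_right v (x - y) y
  rw [sub_add_cancel] at h
  rw [h, add_sub_cancel_right]

/-- `det G ≠ 0` (this is `gram_det_ne_zero` of [PERP]) -/
theorem gram_det_ne_zero' (hf : IsBilinearForm f) (hnd : IsNondegenerateForm f) :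
    (gramMatrix f).det ≠ 0 := by
  intro h0
  obtain ⟨v, hv0, hv⟩ := Matrix.exists_mulVec_eq_zero_iff.2 h0
  obtain ⟨x, hx⟩ := (hnd v hv0).1
  apply hx
  rw [form_eq_gram' hf, hv, dotProduct_zero]

/-- two matrices with `f u (k v) = f u (k' v)` for all `u v` are equal -/
theorem eq_of_form_eq (hf : IsBilinearForm f) (hnd : IsNondegenerateForm f)
    (k k' : Matrix (Fin n) (Fin n) F) (h : ∀ u v, f u (k *ᵥ v) = f u (k' *ᵥ v)) : k = k' := by
  apply Matrix.toLin'.injective
  apply LinearMap.ext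
  intro v
  rw [Matrix.toLin'_apply, Matrix.toLin'_apply]
  by_contra hne
  have hne' : k *ᵥ v - k' *ᵥ v ≠ 0 := sub_ne_zero.2 hne
  obtain ⟨x, hx⟩ := (hnd _ hne').1
  apply hx
  rw [sub_right hf, h, sub_self]

end Cfsg.Agent.Lib.Helper69.AschSpAdj

namespace Cfsg.Agent.Lib.Helper23.AschSp

open Cfsg Cfsg.Geo Cfsg.Agent.Lib.Helper99.Asch Cfsg.Agent.Lib.Helper69.AschSpAdj
open scoped MatrixGroups Matrix Kronecker

variable {n : ℕ} {F : Type*} [Field F] {f : (Fin n → F) → (Fin n → F) → F}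

/-- ASCHSP-[ADJ] -/
theorem adj_spec (hf : IsSymplecticForm f) (k : Matrix (Fin n) (Fin n) F) (u v : Fin n → F) :
    f (k *ᵥ u) v = f u (adjMat f k *ᵥ v) := by
  have hG : IsUnit (gramMatrix f).det :=
    isUnit_iff_ne_zero.2 (gram_det_ne_zero' hf.bilinear hf.nondegenerate)
  rw [form_eq_gram' hf.bilinear, form_eq_gram' hf.bilinear, adjMat, Matrix.mulVec_mulVec,
    ← Matrix.mul_assoc, ← Matrix.mul_assoc, Matrix.mul_nonsing_inv _ hG, Matrix.one_mul,
    ← Matrix.mulVec_mulVec, ← Matrix.vecMul_transpose, Matrix.dotProduct_mulVec, Matrix.vecMul_vecMul,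
    ← Matrix.dotProduct_mulVec, Matrix.mulVec_mulVec]

theorem adj_unique (hf : IsSymplecticForm f) (k k' : Matrix (Fin n) (Fin n) F)
    (h : ∀ u v, f (k *ᵥ u) v = f u (k' *ᵥ v)) : k' = adjMat f k := by
  apply eq_of_form_eq hf.bilinear hf.nondegenerate
  intro u v
  rw [← h, adj_spec hf]

theorem adj_adj (hf : IsSymplecticForm f) (k : Matrix (Fin n) (Fin n) F) :
    adjMat f (adjMat f k) = k := by
  symm
  apply adj_unique hf
  intro u v
  rw [hf.skew, ← adj_spec hf, hf.skew, neg_neg]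

theorem adj_mul (hf : IsSymplecticForm f) (k l : Matrix (Fin n) (Fin n) F) :
    adjMat f (k * l) = adjMat f l * adjMat f k := by
  symm
  apply adj_unique hf
  intro u v
  rw [← Matrix.mulVec_mulVec, ← Matrix.mulVec_mulVec, adj_spec hf, adj_spec hf]

theorem adj_add (k l : Matrix (Fin n) (Fin n) F) : adjMat f (k + l) = adjMat f k + adjMat f l := by
  simp only [adjMat, Matrix.transpose_add, Matrix.mul_add, Matrix.add_mul]

theorem adj_smul (c : F) (k : Matrix (Fin n) (Fin n) F) : adjMat f (c • k) = c • adjMat f k := by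
  simp only [adjMat, Matrix.transpose_smul, Matrix.mul_smul, Matrix.smul_mul]

theorem adj_one (hf : IsSymplecticForm f) : adjMat f (1 : Matrix (Fin n) (Fin n) F) = 1 := by
  have hG : IsUnit (gramMatrix f).det :=
    isUnit_iff_ne_zero.2 (gram_det_ne_zero' hf.bilinear hf.nondegenerate)
  rw [adjMat, Matrix.transpose_one, Matrix.mul_one, Matrix.nonsing_inv_mul _ hG]

theorem adj_of_mem_similarity (hf : IsSymplecticForm f) (g : GL (Fin n) F) (hg : g ∈ similarityGroup f) :
    ∃ c : F, c ≠ 0 ∧ adjMat f (g : Matrix (Fin n) (Fin n) F) = c • ((g⁻¹ : GL (Fin n) F) : Matrix (Fin n) (Fin n) F) := by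
  obtain ⟨c, hc⟩ := hg
  refine ⟨c, c.ne_zero, ?_⟩
  symm
  apply adj_unique hf
  intro u v
  have h := hc u (((g⁻¹ : GL (Fin n) F) : Matrix (Fin n) (Fin n) F) *ᵥ v)
  rw [Matrix.mulVec_mulVec, ← Units.val_mul, mul_inv_cancel, Units.val_one, Matrix.one_mulVec] at h
  rw [h, Matrix.smul_mulVec, hf.bilinear.smul_right]

end Cfsg.Agent.Lib.Helper23.AschSp

namespace Cfsg.Agent.Lib.Helper69.AschSpAdj

open Cfsg Cfsg.Geo Cfsg.Agent.Lib.Helper99.Asch Cfsg.Agent.Lib.Helper23.AschSp
open scoped MatrixGroups Matrix Kronecker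

variable {n : ℕ} {F : Type*} [Field F] {f : (Fin n → F) → (Fin n → F) → F}

/-- the adjoint of an isometry is its inverse -/
theorem adj_of_mem_isoGL (hf : IsSymplecticForm f) (h : GL (Fin n) F) (hh : h ∈ isoGL f) :
    adjMat f (h : Matrix (Fin n) (Fin n) F) = ((h⁻¹ : GL (Fin n) F) : Matrix (Fin n) (Fin n) F) := by
  symm
  apply adj_unique hf
  intro u v
  have h1 := mem_isoGL.1 hh u (((h⁻¹ : GL (Fin n) F) : Matrix (Fin n) (Fin n) F) *ᵥ v)
  rw [Matrix.mulVec_mulVec, ← Units.val_mul, mul_inv_cancel, Units.val_one, Matrix.one_mulVec] at h1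
  exact h1

end Cfsg.Agent.Lib.Helper69.AschSpAdj

namespace Cfsg.Agent.Lib.Helper23.AschSp

open Cfsg Cfsg.Geo Cfsg.Agent.Lib.Helper99.Asch Cfsg.Agent.Lib.Helper69.AschSpAdj
open scoped MatrixGroups Matrix Kronecker

variable {n : ℕ} {F : Type*} [Field F] {f : (Fin n → F) → (Fin n → F) → F}

theorem adj_conj (hf : IsSymplecticForm f) (h : GL (Fin n) F) (hh : h ∈ isoGL f) (k : Matrix (Fin n) (Fin n) F) :
    adjMat f ((h : Matrix (Fin n) (Fin n) F) * k * ((h⁻¹ : GL (Fin n) F) : Matrix (Fin n) (Fin n) F)) =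
      (h : Matrix (Fin n) (Fin n) F) * adjMat f k * ((h⁻¹ : GL (Fin n) F) : Matrix (Fin n) (Fin n) F) := by
  have h1 := adj_of_mem_isoGL hf h hh
  have h2 := adj_of_mem_isoGL hf h⁻¹ ((isoGL f).inv_mem hh)
  rw [inv_inv] at h2
  rw [adj_mul hf, adj_mul hf, h1, h2, Matrix.mul_assoc]

end Cfsg.Agent.Lib.Helper23.AschSp
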