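import Mathlib
import Cfsg.Prelude.Def_GeometricClasses
import Cfsg.Agent.Lib.Helper99.AschDefs
import Cfsg.Agent.Lib.Helper23.AschSpDefs

/-!
# ASCHSP-[R2] (helper23 sheet, S5662): scalar commutators of similitudes of a symplectic form are `±1`,
so the exponent prime of a non-abelian `N` with scalar commutators is `2`
-/

set_option autoImplicit false

namespace Cfsg.Agent.Lib.Helper69.AschSpR2

open Cfsg Cfsg.Geo Cfsg.Agent.Lib.Helper99.Asch Cfsg.Agent.Lib.Helper23.AschSp
open scoped MatrixGroups Matrix Kronecker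

variable {n : ℕ} {F : Type*} [Field F]

/-- a scalar element of `GL` commutes with everything -/
theorem scalar_comm (c : GL (Fin n) F) (hc : c ∈ scalars (Fin n) F) (g : GL (Fin n) F) : c * g = g * c := by
  obtain ⟨ζ, hζ⟩ := (mem_scalars_iff c).1 hc
  apply Units.ext
  rw [Units.val_mul, Units.val_mul, hζ, Matrix.smul_mul, Matrix.mul_smul, Matrix.one_mul, Matrix.mul_one]

/-- an absolutely irreducible subgroup in dimension `≥ 2` is not abelian -/
theorem exists_not_commute (hn : 2 ≤ n) (N : Subgroup (GL (Fin n) F))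
    (habs : ActsAbsolutelyIrreducibly (matrixSet N)) : ∃ x ∈ N, ∃ y ∈ N, x * y ≠ y * x := by
  by_contra hcon
  push Not at hcon
  -- every element is scalar
  have hsc : ∀ s ∈ matrixSet N, ∃ c : F, s = c • (1 : Matrix (Fin n) (Fin n) F) := by
    rintro s ⟨x, hx, rfl⟩
    apply habs.2
    rintro t ⟨y, hy, rfl⟩
    show (x : Matrix (Fin n) (Fin n) F) * (y : Matrix (Fin n) (Fin n) F) = y * x
    rw [← Units.val_mul, ← Units.val_mul, hcon x hx y hy]
  set i0 : Fin n := ⟨0, by omega⟩ with hi0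
  set W : Submodule F (Fin n → F) := Submodule.span F {Pi.single i0 (1 : F)} with hW
  have hinv : ∀ s ∈ matrixSet N, W.map (Matrix.toLin' s) ≤ W := by
    intro s hs x hx
    obtain ⟨c, rfl⟩ := hsc s hs
    obtain ⟨v, hv, rfl⟩ := Submodule.mem_map.1 hx
    rw [Matrix.toLin'_apply, Matrix.smul_mulVec, Matrix.one_mulVec]
    exact W.smul_mem c hv
  have hv0 : (Pi.single i0 (1 : F) : Fin n → F) ≠ 0 := by
    intro h
    have := congrFun h i0
    rw [Pi.single_eq_same, Pi.zero_apply] at this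
    exact one_ne_zero this
  rcases habs.1 W hinv with hbot | htop
  · have hmem : Pi.single i0 (1 : F) ∈ W := Submodule.subset_span rfl
    rw [hbot, Submodule.mem_bot] at hmem
    exact hv0 hmem
  · have h1 : Module.finrank F W = 1 := finrank_span_singleton hv0
    have h2 : Module.finrank F W = n := by
      rw [htop, finrank_top, Module.finrank_fin_fun]
    omega

end Cfsg.Agent.Lib.Helper69.AschSpR2

namespace Cfsg.Agent.Lib.Helper23.AschSp

open Cfsg Cfsg.Geo Cfsg.Agent.Lib.Helper99.Asch Cfsg.Agent.Lib.Helper69.AschSpR2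
open scoped MatrixGroups Matrix Kronecker

variable {n : ℕ} {F : Type*} [Field F] {f : (Fin n → F) → (Fin n → F) → F}

/-- ASCHSP-[R2] -/
theorem prime_eq_two_of_commScalar (hf : IsSymplecticForm f) (hn : 2 ≤ n) (N : Subgroup (GL (Fin n) F))
    (hN : N ≤ similarityGroup f) (habs : ActsAbsolutelyIrreducibly (matrixSet N)) (hab : CommScalar N)
    (r : ℕ) (hr : r.Prime) (hexp : ∀ x ∈ N, x ^ r ∈ scalars (Fin n) F) : r = 2 := by
  obtain ⟨x, hx, y, hy, hxy⟩ := exists_not_commute hn N habs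
  obtain ⟨c, hc⟩ : ∃ c : GL (Fin n) F, c = x * y * x⁻¹ * y⁻¹ := ⟨_, rfl⟩
  have hcs : c ∈ scalars (Fin n) F := hc ▸ hab x hx y hy
  obtain ⟨ζ, hζ⟩ := (mem_scalars_iff c).1 hcs
  have hcyx : c * (y * x) = x * y := by rw [hc]; group
  -- a pair with `f u v ≠ 0`
  obtain ⟨u, v, huv⟩ : ∃ u v : Fin n → F, f u v ≠ 0 := by
    set i0 : Fin n := ⟨0, by omega⟩
    have hv0 : (Pi.single i0 (1 : F) : Fin n → F) ≠ 0 := by
      intro h
      have := congrFun h i0
      rw [Pi.single_eq_same, Pi.zero_apply] at this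
      exact one_ne_zero this
    obtain ⟨w, hw⟩ := (hf.nondegenerate _ hv0).1
    exact ⟨w, _, hw⟩
  -- `ζ ^ 2 = 1`
  obtain ⟨a, ha⟩ := hN hx
  obtain ⟨b, hb⟩ := hN hy
  have hζ2 : (ζ : F) ^ 2 = 1 := by
    have h1 : f (((x * y : GL (Fin n) F) : Matrix (Fin n) (Fin n) F) *ᵥ u)
        (((x * y : GL (Fin n) F) : Matrix (Fin n) (Fin n) F) *ᵥ v) = (a : F) * ((b : F) * f u v) := by
      rw [Units.val_mul, ← Matrix.mulVec_mulVec, ← Matrix.mulVec_mulVec, ha, hb]
    have h2 : f (((c * (y * x) : GL (Fin n) F) : Matrix (Fin n) (Fin n) F) *ᵥ u)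
        (((c * (y * x) : GL (Fin n) F) : Matrix (Fin n) (Fin n) F) *ᵥ v) =
        (ζ : F) ^ 2 * ((b : F) * ((a : F) * f u v)) := by
      rw [Units.val_mul, Units.val_mul, hζ, ← Matrix.mulVec_mulVec, ← Matrix.mulVec_mulVec,
        ← Matrix.mulVec_mulVec, ← Matrix.mulVec_mulVec, Matrix.smul_mulVec, Matrix.smul_mulVec,
        Matrix.one_mulVec, Matrix.one_mulVec, hf.bilinear.smul_left, hf.bilinear.smul_right, hb, ha]
      ring
    rw [hcyx, h1] at h2
    have hne : (a : F) * ((b : F) * f u v) ≠ 0 :=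
      mul_ne_zero a.ne_zero (mul_ne_zero b.ne_zero huv)
    have h3 : ((ζ : F) ^ 2 - 1) * ((a : F) * ((b : F) * f u v)) = 0 := by
      have : (ζ : F) ^ 2 * ((b : F) * ((a : F) * f u v)) = (ζ : F) ^ 2 * ((a : F) * ((b : F) * f u v)) := by
        ring
      rw [this] at h2
      rw [sub_mul, one_mul, ← h2, sub_self]
    rcases mul_eq_zero.1 h3 with h | h
    · exact sub_eq_zero.1 h
    · exact absurd h hne
  -- `ζ ≠ 1`
  have hζ1 : (ζ : F) ≠ 1 := by
    intro h
    apply hxy
    have hc1 : c = 1 := by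
      apply Units.ext
      rw [hζ, h, one_smul, Units.val_one]
    rw [← hcyx, hc1, one_mul]
  -- `x ^ k * y = c ^ k * y * x ^ k`
  have hpow : ∀ k : ℕ, x ^ k * y = c ^ k * (y * x ^ k) := by
    intro k
    induction k with
    | zero => simp
    | succ k ih =>
      have hck : ∀ g : GL (Fin n) F, c * g = g * c := scalar_comm c hcs
      calc x ^ (k + 1) * y = x ^ k * (x * y) := by rw [pow_succ, mul_assoc]
        _ = x ^ k * (c * (y * x)) := by rw [hcyx]
        _ = c * (x ^ k * y) * x := by rw [← mul_assoc, ← hck (x ^ k)]; group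
        _ = c * (c ^ k * (y * x ^ k)) * x := by rw [ih]
        _ = c ^ (k + 1) * (y * x ^ (k + 1)) := by rw [pow_succ, pow_succ]; rw [← hck (c ^ k)]; group
  have hcr : c ^ r = 1 := by
    have h1 := hpow r
    have h2 : x ^ r * y = y * x ^ r := scalar_comm _ (hexp x hx) y
    rw [h2] at h1
    exact (mul_eq_right (a := c ^ r) (b := y * x ^ r)).1 h1.symm
  have hζr : (ζ : F) ^ r = 1 := by
    have h1 : ((c ^ r : GL (Fin n) F) : Matrix (Fin n) (Fin n) F) = ((ζ : F) ^ r) • 1 := by
      rw [Units.val_pow_eq_pow_val, hζ, smul_pow, one_pow]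
    rw [hcr, Units.val_one] at h1
    have i0 : Fin n := ⟨0, by omega⟩
    have := congrFun (congrFun h1 i0) i0
    rw [Matrix.one_apply_eq, Matrix.smul_apply, Matrix.one_apply_eq, smul_eq_mul, mul_one] at this
    exact this.symm
  -- `r` is even
  rcases Nat.even_or_odd r with he | ho
  · exact (Nat.Prime.even_iff hr).1 he
  · exfalso
    obtain ⟨k, hk⟩ := ho
    apply hζ1
    rw [hk, pow_succ, pow_mul, hζ2, one_pow, one_mul] at hζr
    exact hζr

end Cfsg.Agent.Lib.Helper23.AschSp
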