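import Mathlib
import Cfsg.Prelude.Def_GeometricClasses
import Cfsg.Agent.Lib.Helper99.AschDefs
import Cfsg.Agent.Lib.Helper23.AschSpDefs

/-!
# ASCHSP-[UNIQ] (helper23 sheet, S5662): invariant Gram matrices of an absolutely irreducible set are
invertible and unique up to a scalar
-/

set_option autoImplicit false

namespace Cfsg.Agent.Lib.Helper23.AschSp

open Cfsg Cfsg.Geo Cfsg.Agent.Lib.Helper99.Asch
open scoped MatrixGroups Matrix Kronecker

variable {F : Type*} [Field F]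

/-- ASCHSP-[UNIQ] -/
theorem invariant_gram_unique {d : ℕ} (S : Set (Matrix (Fin d) (Fin d) F)) (hS : ActsAbsolutelyIrreducibly S)
    (hinv : ∀ s ∈ S, s.det ≠ 0) (μ : Matrix (Fin d) (Fin d) F → F) (hμ : ∀ s ∈ S, μ s ≠ 0)
    (G₁ G₂ : Matrix (Fin d) (Fin d) F) (h₁ : ∀ s ∈ S, sᵀ * G₁ * s = μ s • G₁) (h₂ : ∀ s ∈ S, sᵀ * G₂ * s = μ s • G₂)
    (hne : G₁ ≠ 0) : G₁.det ≠ 0 ∧ ∃ c : F, G₂ = c • G₁ := by
  -- transposes are invertible
  have htu : ∀ s ∈ S, IsUnit (sᵀ).det := fun s hs => by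
    rw [Matrix.det_transpose]; exact isUnit_iff_ne_zero.2 (hinv s hs)
  -- `G s = μ • (sᵀ)⁻¹ G` for an invariant `G`
  have hkey : ∀ (G : Matrix (Fin d) (Fin d) F) (s : Matrix (Fin d) (Fin d) F), s ∈ S →
      sᵀ * G * s = μ s • G → G * s = μ s • ((sᵀ)⁻¹ * G) := by
    intro G s hs h
    have : (sᵀ)⁻¹ * (sᵀ * G * s) = (sᵀ)⁻¹ * (μ s • G) := by rw [h]
    rw [Matrix.mul_assoc, ← Matrix.mul_assoc (sᵀ)⁻¹, Matrix.nonsing_inv_mul _ (htu s hs), Matrix.one_mul,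
      Matrix.mul_smul] at this
    exact this
  -- step 1: the kernel of `G₁` is invariant
  have hdet : G₁.det ≠ 0 := by
    set W : Submodule F (Fin d → F) := LinearMap.ker (Matrix.toLin' G₁) with hW
    have hWinv : ∀ s ∈ S, W.map (Matrix.toLin' s) ≤ W := by
      intro s hs x hx
      obtain ⟨v, hv, rfl⟩ := Submodule.mem_map.1 hx
      rw [hW, LinearMap.mem_ker, Matrix.toLin'_apply] at hv
      rw [hW, LinearMap.mem_ker, Matrix.toLin'_apply, Matrix.toLin'_apply, Matrix.mulVec_mulVec,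
        hkey G₁ s hs (h₁ s hs), Matrix.smul_mulVec, ← Matrix.mulVec_mulVec, hv, Matrix.mulVec_zero,
        smul_zero]
    rcases hS.1 W hWinv with hbot | htop
    · intro h0
      obtain ⟨v, hv0, hv⟩ := Matrix.exists_mulVec_eq_zero_iff.2 h0
      have : v ∈ W := by rw [hW, LinearMap.mem_ker, Matrix.toLin'_apply]; exact hv
      rw [hbot, Submodule.mem_bot] at this
      exact hv0 this
    · exfalso
      apply hne
      have h0 : Matrix.toLin' G₁ = 0 := LinearMap.ker_eq_top.1 htop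
      have : Matrix.toLin' G₁ = Matrix.toLin' (0 : Matrix (Fin d) (Fin d) F) := by rw [h0, map_zero]
      exact Matrix.toLin'.injective this
  refine ⟨hdet, ?_⟩
  have hG₁u : IsUnit G₁.det := isUnit_iff_ne_zero.2 hdet
  -- step 2: `G₁⁻¹ G₂` commutes with `S`
  have hcomm : ∀ s ∈ S, (G₁⁻¹ * G₂) * s = s * (G₁⁻¹ * G₂) := by
    intro s hs
    have ha := hkey G₁ s hs (h₁ s hs)
    have hb := hkey G₂ s hs (h₂ s hs)
    -- `s * G₁⁻¹ = μ • G₁⁻¹ * (sᵀ)⁻¹`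
    have hc : s * G₁⁻¹ = μ s • (G₁⁻¹ * (sᵀ)⁻¹) := by
      have h3 : G₁⁻¹ * (G₁ * s) * G₁⁻¹ = G₁⁻¹ * (μ s • ((sᵀ)⁻¹ * G₁)) * G₁⁻¹ := by rw [ha]
      rw [← Matrix.mul_assoc, Matrix.nonsing_inv_mul _ hG₁u, Matrix.one_mul, Matrix.mul_smul,
        Matrix.smul_mul, Matrix.mul_assoc, Matrix.mul_assoc, Matrix.mul_nonsing_inv _ hG₁u,
        Matrix.mul_one] at h3
      exact h3
    rw [Matrix.mul_assoc, hb, ← Matrix.mul_assoc s, hc, Matrix.mul_smul, Matrix.smul_mul,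
      Matrix.mul_assoc]
  obtain ⟨c, hc⟩ := hS.2 (G₁⁻¹ * G₂) hcomm
  refine ⟨c, ?_⟩
  have : G₁ * (G₁⁻¹ * G₂) = G₁ * (c • (1 : Matrix (Fin d) (Fin d) F)) := by rw [hc]
  rw [← Matrix.mul_assoc, Matrix.mul_nonsing_inv _ hG₁u, Matrix.one_mul, Matrix.mul_smul,
    Matrix.mul_one] at this
  exact this

end Cfsg.Agent.Lib.Helper23.AschSp
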