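/-
helper69: project D4INV (helper91, S2183), module [D4INV-FL]: fusion of the long root elements of `³D₄(q)`, `q` even.
-/
import Cfsg.Agent.Lib.Helper91.D4Inv.Conj
import Cfsg.Agent.Lib.Helper91.D4Inv.Arith
import Cfsg.Agent.Lib.Helper91.TwOut.D4Split
import Cfsg.Agent.Lib.Helper69.TwOut.D4SL2B
import Cfsg.Agent.Lib.Helper1.TwOutSL2

set_option autoImplicit false

namespace Cfsg.Agent.Lib.Helper69.D4Inv

open Cfsg Cfsg.Lie Cfsg.Agent.Lib.Helper18 Cfsg.Agent.Lib.Helper17 Cfsg.Agent.Lib.Helper91.TwOut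
open Cfsg.Agent.Lib.Helper91.D4Inv Cfsg.Agent.Lib.Helper69.TwOut

universe u

variable {K : Type u} [Field K] [CharP K 2] (φ : K ≃+* K)

/-- In characteristic 2 the signs `±1` are `1`. -/
theorem sign_cast_two (z : ℤ) (hz : z = 1 ∨ z = -1) : ((z : ℤ) : K) = 1 := by
  rcases hz with rfl | rfl
  · simp
  · simp [CharTwo.neg_eq]

/-- `n_a` maps the root `b` to `3a+b`. -/
theorem nA_conj_x14 (v : K) : nA * xG hD4 14 v * (nA : GL chevD4.Idx K)⁻¹ = xG hD4 22 v := by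
  have hws : ∀ i ∈ [0, 2, 3], i < chevD4.rank := by decide
  unfold nA
  rw [nW_conj_xG hD4 chevData_D4.{u} _ hws 14 (by decide)]
  have r1 : wordRootF chevData_D4.{u}.tabs [0, 2, 3] 14 = 22 := by decide
  have s1 : wordSignF chevData_D4.{u}.tabs [0, 2, 3] 14 = 1 ∨ wordSignF chevData_D4.{u}.tabs [0, 2, 3] 14 = -1 := by
    decide
  rw [r1, sign_cast_two _ s1, one_mul]

/-- `n_b` maps the root `3a+b` to `3a+2b`. -/
theorem nB_conj_x22 (v : K) : nB * xG hD4 22 v * (nB : GL chevD4.Idx K)⁻¹ = xG hD4 23 v := by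
  have hws : ∀ i ∈ [1], i < chevD4.rank := by decide
  unfold nB
  rw [nW_conj_xG hD4 chevData_D4.{u} _ hws 22 (by decide)]
  have r1 : wordRootF chevData_D4.{u}.tabs [1] 22 = 23 := by decide
  have s1 : wordSignF chevData_D4.{u}.tabs [1] 22 = 1 ∨ wordSignF chevData_D4.{u}.tabs [1] 22 = -1 := by
    decide
  rw [r1, sign_cast_two _ s1, one_mul]

theorem gconj_14_22 [Fintype K] (v : K) : GConj φ (xG hD4 14 v) (xG hD4 22 v) :=
  ⟨nA, nA_mem φ, nA_conj_x14 v⟩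

theorem gconj_22_23 [Fintype K] (v : K) : GConj φ (xG hD4 22 v) (xG hD4 23 v) :=
  ⟨nB, nB_mem φ, nB_conj_x22 v⟩

/-- Scaling of the long root element `x_b(u)` by the torus of the `SL₂` over the fixed field. -/
theorem gconj_scale_14 [Fintype K] (hφ3 : ∀ a : K, φ (φ (φ a)) = a) (u : K) (hu : φ u = u) (hu0 : u ≠ 0) :
    GConj φ (xG hD4 14 u) (xG hD4 14 1) := by
  obtain ⟨Φ, hx, -⟩ := exists_PhiB φ hφ3
  have hui : φ u⁻¹ = u⁻¹ := by rw [map_inv₀, hu]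
  obtain ⟨y, hy, hyy⟩ := arith4 φ u⁻¹ hui
  have hy0 : y ≠ 0 := by
    intro h
    rw [h, zero_mul] at hyy
    exact inv_ne_zero hu0 hyy.symm
  let y' : ↥(fixField φ) := ⟨y, hy⟩
  have hy'0 : y' ≠ 0 := fun h => hy0 (congrArg Subtype.val h)
  let t : (↥(fixField φ))ˣ := Units.mk0 y' hy'0
  let u' : ↥(fixField φ) := ⟨u, hu⟩
  refine ⟨((Φ (hd t) : ↥(GD4 φ)) : GL chevD4.Idx K), (Φ (hd t)).2, ?_⟩
  have e1 : hd t * sx u' * (hd t)⁻¹ = sx (1 : ↥(fixField φ)) := by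
    rw [Cfsg.Agent.Lib.Helper1.TwOut.sl2_relations.2.2.2.2.1 t u']
    congr 1
    apply Subtype.ext
    show y ^ 2 * u = 1
    rw [pow_two, hyy, inv_mul_cancel₀ hu0]
  have e2 := congrArg (fun g : Matrix.SpecialLinearGroup (Fin 2) ↥(fixField φ) =>
    ((Φ g : ↥(GD4 φ)) : GL chevD4.Idx K)) e1
  simp only [map_mul, map_inv, Subgroup.coe_mul, Subgroup.coe_inv, hx] at e2
  exact e2

/-- [D4INV-FL] -/
theorem fuse_long [Fintype K] (hφ3 : ∀ a : K, φ (φ (φ a)) = a) (u : K) (hu : φ u = u) (hu0 : u ≠ 0) :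
    GConj φ (xG hD4 14 u) (xG hD4 23 1) ∧ GConj φ (xG hD4 22 u) (xG hD4 23 1) ∧
      GConj φ (xG hD4 23 u) (xG hD4 23 1) := by
  have h14 : GConj φ (xG hD4 14 u) (xG hD4 23 1) :=
    GConj.trans φ (GConj.trans φ (gconj_scale_14 φ hφ3 u hu hu0) (gconj_14_22 φ 1)) (gconj_22_23 φ 1)
  have h22 : GConj φ (xG hD4 22 u) (xG hD4 23 1) := GConj.trans φ (GConj.symm φ (gconj_14_22 φ u)) h14
  exact ⟨h14, h22, GConj.trans φ (GConj.symm φ (gconj_22_23 φ u)) h22⟩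

end Cfsg.Agent.Lib.Helper69.D4Inv
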