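/-
helper69: project D4INV (helper91, S2183), module [D4INV-FS]: fusion of the short root elements of `³D₄(q)`, `q` even.
-/
import Cfsg.Agent.Lib.Helper69.D4InvFL

set_option autoImplicit false

namespace Cfsg.Agent.Lib.Helper69.D4Inv

open Cfsg Cfsg.Lie Cfsg.Agent.Lib.Helper18 Cfsg.Agent.Lib.Helper17 Cfsg.Agent.Lib.Helper91.TwOut
open Cfsg.Agent.Lib.Helper91.D4Inv Cfsg.Agent.Lib.Helper69.TwOut

universe u

variable {K : Type u} [Field K] [CharP K 2] (φ : K ≃+* K)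

/-- `n_b` maps the class of `a` to the class of `a+b`. -/
theorem nB_conj_xaG (t : K) : nB * xaG φ t * (nB : GL chevD4.Idx K)⁻¹ = xabG φ t := by
  have hws : ∀ i ∈ [1], i < chevD4.rank := by decide
  unfold nB xaG xabG
  rw [conj_mul3, nW_conj_xG hD4 chevData_D4.{u} _ hws 18 (by decide), nW_conj_xG hD4 chevData_D4.{u} _ hws 13 (by decide),
    nW_conj_xG hD4 chevData_D4.{u} _ hws 12 (by decide)]
  have r1 : wordRootF chevData_D4.{u}.tabs [1] 18 = 19 := by decide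
  have r2 : wordRootF chevData_D4.{u}.tabs [1] 13 = 16 := by decide
  have r3 : wordRootF chevData_D4.{u}.tabs [1] 12 = 15 := by decide
  have s1 : wordSignF chevData_D4.{u}.tabs [1] 18 = 1 ∨ wordSignF chevData_D4.{u}.tabs [1] 18 = -1 := by decide
  have s2 : wordSignF chevData_D4.{u}.tabs [1] 13 = 1 ∨ wordSignF chevData_D4.{u}.tabs [1] 13 = -1 := by decide
  have s3 : wordSignF chevData_D4.{u}.tabs [1] 12 = 1 ∨ wordSignF chevData_D4.{u}.tabs [1] 12 = -1 := by decide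
  rw [r1, r2, r3, sign_cast_two _ s1, sign_cast_two _ s2, sign_cast_two _ s3, one_mul, one_mul, one_mul]

/-- `n_a` maps the class of `a+b` to the class of `2a+b`. -/
theorem nA_conj_xabG (t : K) : nA * xabG φ t * (nA : GL chevD4.Idx K)⁻¹ = x2abG φ t := by
  have hws : ∀ i ∈ [0, 2, 3], i < chevD4.rank := by decide
  unfold nA xabG x2abG
  rw [conj_mul3, nW_conj_xG hD4 chevData_D4.{u} _ hws 19 (by decide), nW_conj_xG hD4 chevData_D4.{u} _ hws 16 (by decide),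
    nW_conj_xG hD4 chevData_D4.{u} _ hws 15 (by decide)]
  have r1 : wordRootF chevData_D4.{u}.tabs [0, 2, 3] 19 = 17 := by decide
  have r2 : wordRootF chevData_D4.{u}.tabs [0, 2, 3] 16 = 20 := by decide
  have r3 : wordRootF chevData_D4.{u}.tabs [0, 2, 3] 15 = 21 := by decide
  have s1 : wordSignF chevData_D4.{u}.tabs [0, 2, 3] 19 = 1 ∨ wordSignF chevData_D4.{u}.tabs [0, 2, 3] 19 = -1 := by
    decide
  have s2 : wordSignF chevData_D4.{u}.tabs [0, 2, 3] 16 = 1 ∨ wordSignF chevData_D4.{u}.tabs [0, 2, 3] 16 = -1 := by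
    decide
  have s3 : wordSignF chevData_D4.{u}.tabs [0, 2, 3] 15 = 1 ∨ wordSignF chevData_D4.{u}.tabs [0, 2, 3] 15 = -1 := by
    decide
  rw [r1, r2, r3, sign_cast_two _ s1, sign_cast_two _ s2, sign_cast_two _ s3, one_mul, one_mul, one_mul]

theorem gconj_a_ab [Fintype K] (t : K) : GConj φ (xaG φ t) (xabG φ t) :=
  ⟨nB, nB_mem φ, nB_conj_xaG φ t⟩

theorem gconj_ab_2ab [Fintype K] (t : K) : GConj φ (xabG φ t) (x2abG φ t) :=
  ⟨nA, nA_mem φ, nA_conj_xabG φ t⟩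

/-- Scaling of the short root element `x_a(t)` by the torus of the `SL₂` over `K`. -/
theorem gconj_scale_a [Fintype K] (hφ3 : ∀ a : K, φ (φ (φ a)) = a) (t : K) (ht : t ≠ 0) :
    GConj φ (xaG φ t) (xaG φ 1) := by
  obtain ⟨Φ, hx, -⟩ := exists_PhiA φ hφ3
  obtain ⟨y, hyy⟩ := exists_sqrt (K := K) t⁻¹
  have hy0 : y ≠ 0 := by
    intro h
    rw [h, zero_mul] at hyy
    exact inv_ne_zero ht hyy.symm
  let s : Kˣ := Units.mk0 y hy0
  refine ⟨((Φ (hd s) : ↥(GD4 φ)) : GL chevD4.Idx K), (Φ (hd s)).2, ?_⟩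
  have e1 : hd s * sx t * (hd s)⁻¹ = sx (1 : K) := by
    rw [Cfsg.Agent.Lib.Helper1.TwOut.sl2_relations.2.2.2.2.1 s t]
    congr 1
    show y ^ 2 * t = 1
    rw [pow_two, hyy, inv_mul_cancel₀ ht]
  have e2 := congrArg (fun g : Matrix.SpecialLinearGroup (Fin 2) K =>
    ((Φ g : ↥(GD4 φ)) : GL chevD4.Idx K)) e1
  simp only [map_mul, map_inv, Subgroup.coe_mul, Subgroup.coe_inv, hx] at e2
  exact e2

/-- [D4INV-FS] -/
theorem fuse_short [Fintype K] (hφ3 : ∀ a : K, φ (φ (φ a)) = a) (t : K) (ht : t ≠ 0) :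
    GConj φ (xaG φ t) (x2abG φ 1) ∧ GConj φ (xabG φ t) (x2abG φ 1) ∧ GConj φ (x2abG φ t) (x2abG φ 1) := by
  have ha : GConj φ (xaG φ t) (x2abG φ 1) :=
    GConj.trans φ (GConj.trans φ (gconj_scale_a φ hφ3 t ht) (gconj_a_ab φ 1)) (gconj_ab_2ab φ 1)
  have hab : GConj φ (xabG φ t) (x2abG φ 1) := GConj.trans φ (GConj.symm φ (gconj_a_ab φ t)) ha
  exact ⟨ha, hab, GConj.trans φ (GConj.symm φ (gconj_ab_2ab φ t)) hab⟩

end Cfsg.Agent.Lib.Helper69.D4Inv
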