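import Mathlib
import Cfsg.Agent.Lib.Helper39.SPW.Defs
import Cfsg.Agent.Lib.Helper39.SPW.WRel

/-!
# SPW-[W-COMM] (helper39 sheet, S2347): the commutant of a Weil representation is spanned by `1` and
the parity operator — `_of` form

`commutant_weil_of` takes the statements of [W-LI], [W-SPAN] and [W-SUM] as hypotheses.
-/

set_option autoImplicit false

namespace Cfsg.Agent.Lib.Helper69.SpwWComm

open Matrix Module Cfsg.Agent.Lib.Helper5 Cfsg.Agent.Lib.Helper39.SPW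

variable {F : Type*} [Field F] [Fintype F] {n : ℕ}

/-- the permutation `v ↦ g v` of `F^n ⊕ F^n` -/
def mulVecEquiv (g : Matrix.symplecticGroup (Fin n) F) :
    (Fin n ⊕ Fin n → F) ≃ (Fin n ⊕ Fin n → F) where
  toFun v := (g : Matrix (Fin n ⊕ Fin n) (Fin n ⊕ Fin n) F) *ᵥ v
  invFun v := ((g⁻¹ : Matrix.symplecticGroup (Fin n) F) : Matrix (Fin n ⊕ Fin n) (Fin n ⊕ Fin n) F) *ᵥ v
  left_inv v := by
    show _ *ᵥ (_ *ᵥ v) = v
    rw [mulVec_mulVec, ← Submonoid.coe_mul, inv_mul_cancel, Submonoid.coe_one, one_mulVec]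
  right_inv v := by
    show _ *ᵥ (_ *ᵥ v) = v
    rw [mulVec_mulVec, ← Submonoid.coe_mul, mul_inv_cancel, Submonoid.coe_one, one_mulVec]

/-- **[W-COMM]**, `_of` form -/
theorem commutant_weil_of (ψ : AddChar F ℂ)
    (hli : LinearIndependent ℂ (fun v : Fin n ⊕ Fin n → F => weyl ψ v))
    (hspan : Submodule.span ℂ (Set.range (fun v : Fin n ⊕ Fin n → F => weyl ψ v)) = ⊤)
    (hsum : ∑ v : Fin n ⊕ Fin n → F, weyl ψ v =
      ((Fintype.card F : ℂ) ^ n) • (par : Module.End ℂ (Fn n F)))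
    (ω : Representation ℂ (Matrix.symplecticGroup (Fin n) F) (Fn n F)) (hω : ∀ g, ω g ∈ Intw ψ g)
    (X : Module.End ℂ (Fn n F)) (hX : ∀ g, ω g * X = X * ω g) :
    ∃ a b : ℂ, X = a • (1 : Module.End ℂ (Fn n F)) + b • par := by
  classical
  have hXmem : X ∈ Submodule.span ℂ (Set.range (fun v : Fin n ⊕ Fin n → F => weyl ψ v)) := by
    rw [hspan]; exact Submodule.mem_top
  obtain ⟨c, hc⟩ := (Submodule.mem_span_range_iff_exists_fun ℂ).1 hXmem
  -- invariance of the coefficients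
  have hinv : ∀ (g : Matrix.symplecticGroup (Fin n) F) (v : Fin n ⊕ Fin n → F),
      c ((g : Matrix (Fin n ⊕ Fin n) (Fin n ⊕ Fin n) F) *ᵥ v) = c v := by
    intro g v
    obtain ⟨hu, hint⟩ := hω g
    obtain ⟨u, hu⟩ := hu
    have h1 : (∑ v : Fin n ⊕ Fin n → F,
        c v • weyl ψ ((g : Matrix (Fin n ⊕ Fin n) (Fin n ⊕ Fin n) F) *ᵥ v)) * ω g =
        (∑ v : Fin n ⊕ Fin n → F, c v • weyl ψ v) * ω g := by
      rw [hc, ← hX g, ← hc, Finset.mul_sum, Finset.sum_mul]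
      refine Finset.sum_congr rfl fun v _ => ?_
      rw [mul_smul_comm, smul_mul_assoc, hint v]
    have h2 : ∑ v : Fin n ⊕ Fin n → F,
        c v • weyl ψ ((g : Matrix (Fin n ⊕ Fin n) (Fin n ⊕ Fin n) F) *ᵥ v) =
        ∑ v : Fin n ⊕ Fin n → F, c v • weyl ψ v := by
      rw [← hu] at h1
      have := congrArg (fun Y => Y * ((u⁻¹ : (Module.End ℂ (Fn n F))ˣ) : Module.End ℂ (Fn n F))) h1
      simpa only [mul_assoc, Units.mul_inv, mul_one] using this
    have h3 : ∑ v : Fin n ⊕ Fin n → F,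
        c v • weyl ψ ((g : Matrix (Fin n ⊕ Fin n) (Fin n ⊕ Fin n) F) *ᵥ v) =
        ∑ v : Fin n ⊕ Fin n → F, c ((mulVecEquiv g).symm v) • weyl ψ v := by
      rw [← Equiv.sum_comp (mulVecEquiv g)
        (fun v => c ((mulVecEquiv g).symm v) • weyl ψ v)]
      refine Finset.sum_congr rfl fun v _ => ?_
      rw [Equiv.symm_apply_apply]
      rfl
    rw [h3] at h2
    have h4 : ∑ v : Fin n ⊕ Fin n → F, (c ((mulVecEquiv g).symm v) - c v) • weyl ψ v = 0 := by
      have : ∀ v : Fin n ⊕ Fin n → F, (c ((mulVecEquiv g).symm v) - c v) • weyl ψ v =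
          c ((mulVecEquiv g).symm v) • weyl ψ v - c v • weyl ψ v := fun v => sub_smul (c ((mulVecEquiv g).symm v)) (c v) (weyl ψ v)
      rw [Finset.sum_congr rfl (fun v _ => this v), Finset.sum_sub_distrib, h2, sub_self]
    have h5 := Fintype.linearIndependent_iff.1 hli _ h4
    have h6 := h5 ((mulVecEquiv g) v)
    rw [Equiv.symm_apply_apply, sub_eq_zero] at h6
    exact h6.symm
  -- constant on non-zero vectors
  have hconst : ∃ c1 : ℂ, ∀ v : Fin n ⊕ Fin n → F, v ≠ 0 → c v = c1 := by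
    by_cases h : ∃ v0 : Fin n ⊕ Fin n → F, v0 ≠ 0
    · obtain ⟨v0, hv0⟩ := h
      refine ⟨c v0, fun v hv => ?_⟩
      obtain ⟨g, hg⟩ := symplecticGroup_transitive hv0 hv
      rw [← hg, hinv g v0]
    · push Not at h
      exact ⟨0, fun v hv => absurd (h v) hv⟩
  obtain ⟨c1, hc1⟩ := hconst
  refine ⟨c 0 - c1, c1 * (Fintype.card F : ℂ) ^ n, ?_⟩
  have hsplit : ∀ v : Fin n ⊕ Fin n → F,
      c v • weyl ψ v = c1 • weyl ψ v + (if v = 0 then (c 0 - c1) • weyl ψ v else 0) := by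
    intro v
    by_cases hv : v = 0
    · subst hv
      rw [if_pos rfl, ← add_smul]
      congr 1
      ring
    · rw [if_neg hv, add_zero, hc1 v hv]
  rw [← hc]
  simp only [hsplit]
  rw [Finset.sum_add_distrib, ← Finset.smul_sum, hsum, Finset.sum_ite_eq' Finset.univ (0 : Fin n ⊕ Fin n → F),
    if_pos (Finset.mem_univ _), weyl_zero, smul_smul, add_comm]

end Cfsg.Agent.Lib.Helper69.SpwWComm
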