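import Mathlib
import Cfsg.Agent.Lib.Helper39.SPW.Defs
import Cfsg.Agent.Lib.Helper61.SpwWLI
import Cfsg.Agent.Lib.Helper61.SpwWSum
import Cfsg.Agent.Lib.Helper95.SpwWSpan
import Cfsg.Agent.Lib.Helper69.SpwWComm

/-!
# SPW-[W-COMM] (helper39 sheet, S2347): exact statement

from `Helper69.SpwWComm.commutant_weil_of`, helper61's `linearIndependent_weyl` ([W-LI]) and `sum_weyl`
([W-SUM]) and helper95's `span_weyl` ([W-SPAN]).
-/

set_option autoImplicit false

namespace Cfsg.Agent.Lib.Helper39.SPW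

open Matrix Module Cfsg.Agent.Lib.Helper5

variable {F : Type*} [Field F] [Fintype F] {n : ℕ}

/-- **[W-COMM]** the commutant of a Weil representation is spanned by `1` and the parity operator -/
theorem commutant_weil (h2 : (2 : F) ≠ 0) (ψ : AddChar F ℂ) (hψ : ψ ≠ 1)
    (ω : Representation ℂ (Matrix.symplecticGroup (Fin n) F) (Fn n F)) (hω : ∀ g, ω g ∈ Intw ψ g)
    (X : Module.End ℂ (Fn n F)) (hX : ∀ g, ω g * X = X * ω g) :
    ∃ a b : ℂ, X = a • (1 : Module.End ℂ (Fn n F)) + b • par :=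
  Cfsg.Agent.Lib.Helper69.SpwWComm.commutant_weil_of ψ (linearIndependent_weyl h2 ψ hψ)
    (span_weyl h2 ψ hψ) (sum_weyl h2 ψ hψ) ω hω X hX

end Cfsg.Agent.Lib.Helper39.SPW
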