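import Mathlib
import Cfsg.Agent.Lib.Helper39.SPW.Defs
import Cfsg.Agent.Lib.Helper39.SPW.WRel

/-!
# SPW-[W-PAR] (helper39 sheet, S2347): every intertwiner commutes with the parity operator — `_of` form

`commute_par_of_mem_Intw_of` takes the statements of [W-SCAL] (`scalar_of_commute_weyl`) and of
`trace_par` ([W-TR]) as hypotheses.
-/

set_option autoImplicit false

namespace Cfsg.Agent.Lib.Helper69.SpwWPar

open Matrix Module Cfsg.Agent.Lib.Helper5 Cfsg.Agent.Lib.Helper39.SPW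

variable {F : Type*} [Field F] [Fintype F] {n : ℕ}

omit [Fintype F] in
theorem coe_mul_coe_inv_mulVec (g : Matrix.symplecticGroup (Fin n) F) (v : Fin n ⊕ Fin n → F) :
    (g : Matrix (Fin n ⊕ Fin n) (Fin n ⊕ Fin n) F) *ᵥ
      (((g⁻¹ : Matrix.symplecticGroup (Fin n) F) : Matrix (Fin n ⊕ Fin n) (Fin n ⊕ Fin n) F) *ᵥ v) = v := by
  rw [mulVec_mulVec, ← Submonoid.coe_mul, mul_inv_cancel, Submonoid.coe_one, one_mulVec]

/-- **[W-PAR]**, `_of` form -/
theorem commute_par_of_mem_Intw_of (ψ : AddChar F ℂ)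
    (hscal : ∀ X : Module.End ℂ (Fn n F), (∀ v : Fin n ⊕ Fin n → F, X * weyl ψ v = weyl ψ v * X) →
      ∃ c : ℂ, X = c • (1 : Module.End ℂ (Fn n F)))
    (htr : LinearMap.trace ℂ (Fn n F) (par : Module.End ℂ (Fn n F)) = 1)
    (g : Matrix.symplecticGroup (Fin n) F) (T : Module.End ℂ (Fn n F)) (hT : T ∈ Intw ψ g) :
    T * par = par * T := by
  obtain ⟨hu, hint⟩ := hT
  obtain ⟨u, rfl⟩ := hu
  -- `u⁻¹ w(v) = w(g⁻¹ v) u⁻¹`
  have hinv : ∀ v : Fin n ⊕ Fin n → F,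
      ((u⁻¹ : (Module.End ℂ (Fn n F))ˣ) : Module.End ℂ (Fn n F)) * weyl ψ v =
        weyl ψ (((g⁻¹ : Matrix.symplecticGroup (Fin n) F) :
          Matrix (Fin n ⊕ Fin n) (Fin n ⊕ Fin n) F) *ᵥ v) *
          ((u⁻¹ : (Module.End ℂ (Fn n F))ˣ) : Module.End ℂ (Fn n F)) := by
    intro v
    have h := hint (((g⁻¹ : Matrix.symplecticGroup (Fin n) F) :
          Matrix (Fin n ⊕ Fin n) (Fin n ⊕ Fin n) F) *ᵥ v)
    rw [coe_mul_coe_inv_mulVec] at h
    -- h : u * w(g⁻¹ v) = w(v) * u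
    calc ((u⁻¹ : (Module.End ℂ (Fn n F))ˣ) : Module.End ℂ (Fn n F)) * weyl ψ v
        = ((u⁻¹ : (Module.End ℂ (Fn n F))ˣ) : Module.End ℂ (Fn n F)) * (weyl ψ v * (u : Module.End ℂ (Fn n F))) *
            ((u⁻¹ : (Module.End ℂ (Fn n F))ˣ) : Module.End ℂ (Fn n F)) := by
          rw [mul_assoc, mul_assoc, Units.mul_inv, mul_one]
      _ = _ := by
          rw [← h, ← mul_assoc, Units.inv_mul, one_mul]
  set Z : Module.End ℂ (Fn n F) :=
    (u : Module.End ℂ (Fn n F)) * par * ((u⁻¹ : (Module.End ℂ (Fn n F))ˣ) : Module.End ℂ (Fn n F)) with hZ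
  have hZw : ∀ v : Fin n ⊕ Fin n → F, Z * weyl ψ v = weyl ψ (-v) * Z := by
    intro v
    have h1 := hinv v
    have h2 := par_mul_weyl ψ (((g⁻¹ : Matrix.symplecticGroup (Fin n) F) :
          Matrix (Fin n ⊕ Fin n) (Fin n ⊕ Fin n) F) *ᵥ v)
    have h3 := hint (-(((g⁻¹ : Matrix.symplecticGroup (Fin n) F) :
          Matrix (Fin n ⊕ Fin n) (Fin n ⊕ Fin n) F) *ᵥ v))
    rw [mulVec_neg, coe_mul_coe_inv_mulVec] at h3
    calc Z * weyl ψ v
        = (u : Module.End ℂ (Fn n F)) * par *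
            (((u⁻¹ : (Module.End ℂ (Fn n F))ˣ) : Module.End ℂ (Fn n F)) * weyl ψ v) := by
          rw [hZ, mul_assoc]
      _ = (u : Module.End ℂ (Fn n F)) * (par * weyl ψ (((g⁻¹ : Matrix.symplecticGroup (Fin n) F) :
          Matrix (Fin n ⊕ Fin n) (Fin n ⊕ Fin n) F) *ᵥ v)) *
            ((u⁻¹ : (Module.End ℂ (Fn n F))ˣ) : Module.End ℂ (Fn n F)) := by
          rw [h1]; simp only [mul_assoc]
      _ = ((u : Module.End ℂ (Fn n F)) * weyl ψ (-(((g⁻¹ : Matrix.symplecticGroup (Fin n) F) :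
          Matrix (Fin n ⊕ Fin n) (Fin n ⊕ Fin n) F) *ᵥ v))) * par *
            ((u⁻¹ : (Module.End ℂ (Fn n F))ˣ) : Module.End ℂ (Fn n F)) := by
          rw [h2]; simp only [mul_assoc]
      _ = weyl ψ (-v) * Z := by
          rw [h3, hZ]; simp only [mul_assoc]
  -- `par * Z` commutes with all Weyl operators
  have hcomm : ∀ v : Fin n ⊕ Fin n → F, (par * Z) * weyl ψ v = weyl ψ v * (par * Z) := by
    intro v
    have h1 := par_mul_weyl ψ (-v)
    rw [neg_neg] at h1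
    rw [mul_assoc, hZw v, ← mul_assoc, h1, mul_assoc]
  obtain ⟨c, hc⟩ := hscal (par * Z) hcomm
  have hZc : Z = c • (par : Module.End ℂ (Fn n F)) := by
    have : par * (par * Z) = Z := by rw [← mul_assoc, par_mul_par, one_mul]
    rw [← this, hc, mul_smul_comm, mul_one]
  have htrZ : LinearMap.trace ℂ (Fn n F) Z = 1 := by
    rw [hZ, LinearMap.trace_mul_comm, ← mul_assoc, Units.inv_mul, one_mul, htr]
  have hc1 : c = 1 := by
    rw [hZc, map_smul, htr, smul_eq_mul, mul_one] at htrZ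
    exact htrZ
  rw [hc1, one_smul] at hZc
  -- `u P u⁻¹ = P`
  calc (u : Module.End ℂ (Fn n F)) * par
      = Z * (u : Module.End ℂ (Fn n F)) := by
        rw [hZ, mul_assoc, Units.inv_mul, mul_one]
    _ = par * (u : Module.End ℂ (Fn n F)) := by rw [hZc]

end Cfsg.Agent.Lib.Helper69.SpwWPar
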