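import Mathlib
import Cfsg.Agent.Lib.Helper39.SPW.Defs
import Cfsg.Agent.Lib.Helper39.SPW.WTr
import Cfsg.Agent.Lib.Helper95.SpwWSpan
import Cfsg.Agent.Lib.Helper33.SpwWInt
import Cfsg.Agent.Lib.Helper69.SpwWPar

/-!
# SPW-[W-PAR] (helper39 sheet, S2347): exact statement

from `Helper69.SpwWPar.commute_par_of_mem_Intw_of`, helper33's `scalar_of_commute_weyl_of`, helper95's
`span_weyl` ([W-SPAN]) and helper39's `trace_par` ([W-TR]).
-/

set_option autoImplicit false

namespace Cfsg.Agent.Lib.Helper39.SPW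

open Matrix Module Cfsg.Agent.Lib.Helper5

variable {F : Type*} [Field F] [Fintype F] {n : ℕ}

/-- **[W-PAR]** every intertwiner commutes with the parity operator -/
theorem commute_par_of_mem_Intw (h2 : (2 : F) ≠ 0) (ψ : AddChar F ℂ) (hψ : ψ ≠ 1)
    (g : Matrix.symplecticGroup (Fin n) F) (T : Module.End ℂ (Fn n F)) (hT : T ∈ Intw ψ g) :
    T * par = par * T :=
  Cfsg.Agent.Lib.Helper69.SpwWPar.commute_par_of_mem_Intw_of ψ
    (fun X hX => Cfsg.Agent.Lib.Helper33.SpwWInt.scalar_of_commute_weyl_of ψ (span_weyl h2 ψ hψ) X hX)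
    (trace_par h2) g T hT

end Cfsg.Agent.Lib.Helper39.SPW
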