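/-
helper69: the centralizer in a Chevalley group `G(F)` of the subgroup generated by the root elements `x_s(±1)` is trivial,
and the normalizer in `G(F)` of any subgroup between the group generated by the `σ`-fixed root elements and the group of
`σ`-fixed points (`σ` an endomorphism of the field applied entrywise) is the group of `σ`-fixed points.
-/
import Cfsg.Agent.Lib.Helper69.FieldAutFix
import Cfsg.Agent.Lib.Helper18.Order1
import Cfsg.Agent.S1053

set_option autoImplicit false

namespace Cfsg.Agent.Lib.Helper69.SubfieldNorm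

open Cfsg Cfsg.Lie Cfsg.Agent.Lib.Helper18 Cfsg.Agent.Lib.Helper69.ChevMap Cfsg.Agent.Lib.Helper69.FieldAutFix

open scoped MatrixGroups

universe v

variable {F : Type v} [Field F] {D : ChevalleyDatum}

/-! ### The centralizer of the root elements `x_s(±1)` -/

section Centralizer

variable (hD : D ∈ [chevG2, chevB2, chevD4, chevF4, chevE6, chevE7, chevE8]) (C : ChevData.{v} D)
  (L : LevelData D)

include hD C L

/-- An element of the group commuting with all `x_r(1)`, `r` positive, lies in `B`. -/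
theorem mem_borel_of_comm (g : GL D.Idx F) (hg : g ∈ D.group F)
    (hcomm : ∀ r, D.IsPosRoot r → Commute (xG hD r 1) g) : g ∈ D.borelSubgroup F := by
  obtain ⟨b, hb, ws, hws, u, hu, rfl⟩ := exists_bruhat_form_nW hD C L g hg
  have hN := nW_mem_monomial (F := F) hD C ws
  have hclaim : ∀ r, D.IsPosRoot r →
      ¬ ((D.rootSubgroup F r).map (MulAut.conj (nW hD C ws)).toMonoidHom ≤ D.negUnipotent F) := by
    intro r hr hle
    have hy : xG hD r 1 ∈ Subgroup.closure (UnegSet D F (nW hD C ws)) :=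
      Subgroup.subset_closure ⟨r, 1, hr, hle, rfl⟩
    have h1 : xG hD r 1 * (b * nW hD C ws * u) = b * nW hD C ws * u * xG hD r 1 := (hcomm r hr).eq
    have h2 : (xG hD r 1 * b) * nW hD C ws * u = b * nW hD C ws * (u * xG hD r 1) := by
      rw [mul_assoc (xG hD r 1), mul_assoc (xG hD r 1), h1, mul_assoc (b * nW hD C ws)]
    obtain ⟨-, h4⟩ := (bruhat_form_unique hD C _ _ _ _ _ _
      (mul_mem (borel_of_posUnipotent _ (xG_mem_posUnipotent hD r 1 hr)) hb) hb hN hN hu
      (mul_mem hu hy) h2).2 rfl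
    have h5 : xG hD r (1 : F) = 1 := by
      have h6 : u * xG hD r 1 = u * 1 := by rw [mul_one]; exact h4.symm
      exact mul_left_cancel h6
    have h7 : D.x F r (1 : F) = 1 := by
      have := congrArg Units.val h5
      simpa using this
    exact one_ne_zero ((Cfsg.Agent.S1024.result D hD r hr.1 1).mp h7)
  have hu1 : u = 1 := by
    have : Subgroup.closure (UnegSet D F (nW hD C ws)) = ⊥ := by
      rw [Subgroup.closure_eq_bot_iff]
      rintro x ⟨r, t, hr, hle, -⟩
      exact absurd hle (hclaim r hr)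
    rw [this, Subgroup.mem_bot] at hu
    exact hu
  have hnH : nW (F := F) hD C ws ∈ D.diagonalSubgroup F := by
    apply mem_diagonal_of_pos hD C ws hws
    intro r hr
    by_contra hlt
    rw [not_le] at hlt
    apply hclaim r hr
    rintro _ ⟨y, hy, rfl⟩
    obtain ⟨t, rfl⟩ := (mem_rootSubgroup_iff hD r y).mp hy
    show nW hD C ws * xG hD r t * (nW hD C ws)⁻¹ ∈ _
    rw [nW_conj_xG hD C ws hws r hr.1]
    exact Subgroup.subset_closure ⟨_, _, isNegRoot_of_lt D (signOK_of_mem D hD) _
      (wordRootF_lt C ws hws r hr.1) hlt, rfl⟩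
  rw [hu1, mul_one]
  exact mul_mem hb (borel_of_diagonal _ hnH)

omit C L in
/-- An element of `H` commuting with all `x_r(1)` is trivial. -/
theorem eq_one_of_mem_diagonal_of_comm (h : GL D.Idx F) (hh : h ∈ D.diagonalSubgroup F)
    (hcomm : ∀ r < D.nroots, Commute (xG hD r 1) h) : h = 1 := by
  obtain ⟨c, hc, hhc⟩ := Cfsg.Agent.S1034.mem_diagonalSubgroup_torus D hD h hh
  have key : ∀ s : Fin D.nroots, torusFun D c (Sum.inr s) = 1 := by
    intro s
    have h1 := torus_mul_x D hD c hc s.val s.2 (1 : F)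
    rw [← hhc, mul_one] at h1
    have h2 : h * xG hD s.val 1 = xG hD s.val (torusFun D c (Sum.inr s)) * h := by
      apply Units.ext
      rw [Units.val_mul, Units.val_mul, coe_xG, coe_xG]
      exact h1
    rw [← (hcomm s.val s.2).eq] at h2
    have h3 : xG hD s.val (1 : F) = xG hD s.val (torusFun D c (Sum.inr s)) := mul_right_cancel h2
    have h4 : xG hD s.val (torusFun D c (Sum.inr s) - 1) = 1 := by
      rw [sub_eq_add_neg, ← xG_mul, ← h3, xG_mul, add_neg_cancel, xG_zero]
    have h5 : D.x F s.val (torusFun D c (Sum.inr s) - 1) = 1 := by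
      have := congrArg Units.val h4
      simpa using this
    exact sub_eq_zero.mp ((Cfsg.Agent.S1024.result D hD s.val s.2 _).mp h5)
  apply Units.ext
  rw [hhc, Units.val_one, ← Matrix.diagonal_one]
  congr 1
  funext j
  rcases j with i | s
  · rfl
  · exact key s

/-- The centralizer in the group of the root elements `x_s(±1)` is trivial. -/
theorem eq_one_of_comm (g : GL D.Idx F) (hg : g ∈ D.group F)
    (hcomm : ∀ (r : ℕ) (t : F), (t = 1 ∨ t = -1) → Commute (xG hD r t) g) : g = 1 := by
  have hB := mem_borel_of_comm hD C L g hg (fun r _ => hcomm r 1 (Or.inl rfl))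
  have hnG : ∀ r (hr : r < D.nroots), Commute (nG hD r hr) g := by
    intro r hr
    rw [nG_eq_xG hD r hr]
    exact ((hcomm r 1 (Or.inl rfl)).mul_left (hcomm (D.neg r) (-1) (Or.inr rfl))).mul_left
      (hcomm r 1 (Or.inl rfl))
  have hsG : ∀ i, Commute (sG hD C i) g := by
    intro i
    unfold sG
    split_ifs with h
    · exact hnG _ _
    · exact Commute.one_left g
  have hnW : ∀ ws : List ℕ, Commute (nW hD C ws) g := by
    intro ws
    induction ws with
    | nil => rw [nW_nil]; exact Commute.one_left g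
    | cons i ws ih => rw [nW_cons]; exact (hsG i).mul_left ih
  obtain ⟨n₀, hn₀, hUV⟩ := Cfsg.Agent.S1053.result (F := F) D hD
  obtain ⟨ws, h₀, hws, hh₀, rfl⟩ := isWordH_of_mem_monomial hD C n₀ hn₀
  have hmU : ∀ u ∈ D.posUnipotent F, nW hD C ws * u * (nW hD C ws)⁻¹ ∈ D.negUnipotent F := by
    intro u hu
    have hu' : h₀⁻¹ * u * h₀ ∈ D.posUnipotent F := by
      have := ((Cfsg.Agent.S1036.result D hD).1 (inv_mem hh₀) u).mp hu
      rwa [inv_inv] at this
    have h1 : (MulAut.conj (nW hD C ws * h₀)).toMonoidHom (h₀⁻¹ * u * h₀) ∈ D.negUnipotent F := by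
      rw [← hUV]
      exact Subgroup.mem_map_of_mem _ hu'
    have e : (MulAut.conj (nW hD C ws * h₀)).toMonoidHom (h₀⁻¹ * u * h₀)
        = nW hD C ws * u * (nW hD C ws)⁻¹ := by
      show nW hD C ws * h₀ * (h₀⁻¹ * u * h₀) * (nW hD C ws * h₀)⁻¹ = _
      group
    rwa [e] at h1
  obtain ⟨u, hu, h, hh, rfl⟩ := (mem_borel_iff D hD g).mp hB
  have hcm : nW hD C ws * (u * h) * (nW hD C ws)⁻¹ = u * h := by
    rw [(hnW ws).eq, mul_inv_cancel_right]
  have hVH : u * h ∈ D.negUnipotent F ⊔ D.diagonalSubgroup F := by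
    rw [← hcm]
    have e : nW hD C ws * (u * h) * (nW hD C ws)⁻¹
        = (nW hD C ws * u * (nW hD C ws)⁻¹) * (nW hD C ws * h * (nW hD C ws)⁻¹) := by group
    rw [e]
    exact mul_mem (Subgroup.mem_sup_left (hmU u hu)) (Subgroup.mem_sup_right (nW_conj_H hD C ws h hh))
  have hH : u * h ∈ D.diagonalSubgroup F := by
    rw [← (Cfsg.Agent.S1037.result D hD).2]
    exact Subgroup.mem_inf.mpr ⟨hB, hVH⟩
  exact eq_one_of_mem_diagonal_of_comm hD _ hH (fun r _ => hcomm r 1 (Or.inl rfl))

end Centralizer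


/-! ### The group generated by the `σ`-fixed root elements and the normalizer -/

/-- The subgroup generated by the root elements `x_s(t)` with `σ t = t`. -/
def fixedRootGroup (D : ChevalleyDatum) (σ : F →+* F) : Subgroup (GL D.Idx F) :=
  Subgroup.closure {g : GL D.Idx F | ∃ (s : ℕ) (t : F), σ t = t ∧ (g : Matrix D.Idx D.Idx F) = D.x F s t}

section Normalizer

variable (hD : D ∈ [chevG2, chevB2, chevD4, chevF4, chevE6, chevE7, chevE8]) (σ : F →+* F)

include hD

theorem xG_mem_fixedRootGroup (s : ℕ) (t : F) (ht : σ t = t) : xG hD s t ∈ fixedRootGroup D σ :=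
  Subgroup.subset_closure ⟨s, t, ht, rfl⟩

theorem prodL_mem_fixedRootGroup (l : List ℕ) (t : ℕ → F) (ht : ∀ r ∈ l, σ (t r) = t r) :
    prodL hD l t ∈ fixedRootGroup D σ := by
  induction l with
  | nil => rw [prodL_nil]; exact one_mem _
  | cons a l ih =>
    rw [prodL_cons]
    exact mul_mem (xG_mem_fixedRootGroup hD σ a _ (ht a List.mem_cons_self))
      (ih fun r hr => ht r (List.mem_cons_of_mem _ hr))

theorem nW_mem_fixedRootGroup (C : ChevData.{v} D) (ws : List ℕ) : nW hD C ws ∈ fixedRootGroup D σ := by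
  induction ws with
  | nil => rw [nW_nil]; exact one_mem _
  | cons i ws ih =>
    rw [nW_cons]
    refine mul_mem ?_ ih
    unfold sG
    split_ifs with h
    · rw [nG_eq_xG]
      exact mul_mem (mul_mem (xG_mem_fixedRootGroup hD σ _ 1 (map_one σ))
        (xG_mem_fixedRootGroup hD σ _ (-1) (by rw [map_neg, map_one])))
        (xG_mem_fixedRootGroup hD σ _ 1 (map_one σ))
    · exact one_mem _

theorem fixed_posUnipotent_mem (C : ChevData.{v} D) (L : LevelData D) (hlex : lexOK D = true)
    (hbez : bezOK D = true) (u : GL D.Idx F) (hu : u ∈ D.posUnipotent F) (hfix : glMap D σ u = u) :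
    u ∈ fixedRootGroup D σ := by
  have hl : ∀ r ∈ D.posRoots, D.IsPosRoot r := fun r hr => (mem_posRoots D r).mp hr
  obtain ⟨t, rfl⟩ := exists_prodL hD C L D.posRoots hl (posRoots_nodup D)
    (fun r hr => (mem_posRoots D r).mpr hr) u hu
  rw [glMap_prodL] at hfix
  exact prodL_mem_fixedRootGroup hD σ _ _
    (prodL_injective hD hlex hbez D.posRoots hl (posRoots_sorted D) _ _ hfix)

/-- A `σ`-fixed element of `H` normalizes the group generated by the `σ`-fixed root elements. -/
theorem conj_mem_fixedRootGroup (h : GL D.Idx F) (hh : h ∈ D.diagonalSubgroup F) (hfix : glMap D σ h = h)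
    (y : GL D.Idx F) (hy : y ∈ fixedRootGroup D σ) : h * y * h⁻¹ ∈ fixedRootGroup D σ := by
  obtain ⟨c, hc, hhc⟩ := Cfsg.Agent.S1034.mem_diagonalSubgroup_torus D hD h hh
  have hχ : ∀ s : Fin D.nroots, σ (torusFun D c (Sum.inr s)) = torusFun D c (Sum.inr s) := by
    intro s
    have := congrArg (fun x : GL D.Idx F => (x : Matrix D.Idx D.Idx F) (Sum.inr s) (Sum.inr s)) hfix
    simp only [coe_glMap, Matrix.map_apply, hhc, Matrix.diagonal_apply_eq] at this
    exact this
  have hle : fixedRootGroup D σ ≤ (fixedRootGroup D σ).comap (MulAut.conj h).toMonoidHom := by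
    show Subgroup.closure _ ≤ _
    rw [Subgroup.closure_le]
    rintro y ⟨s, t, ht, hy⟩
    rw [SetLike.mem_coe, Subgroup.mem_comap]
    show h * y * h⁻¹ ∈ _
    by_cases hs : s < D.nroots
    · have e : h * y * h⁻¹ = xG hD s (torusFun D c (Sum.inr ⟨s, hs⟩) * t) := by
        apply Units.ext
        rw [Units.val_mul, Units.val_mul, hy, hhc, torus_mul_x D hD c hc s hs t, mul_assoc, ← hhc,
          ← Units.val_mul, mul_inv_cancel, Units.val_one, mul_one]
        rfl
      rw [e]
      exact xG_mem_fixedRootGroup hD σ s _ (by rw [map_mul, hχ, ht])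
    · have h1 : y = 1 := by
        apply Units.ext
        rw [hy]
        unfold ChevalleyDatum.x
        rw [dif_neg hs]
        rfl
      rw [h1, mul_one, mul_inv_cancel]
      exact one_mem _
  exact hle hy

omit σ in
/-- `H` is commutative. -/
theorem diagonal_comm (h h' : GL D.Idx F) (hh : h ∈ D.diagonalSubgroup F) (hh' : h' ∈ D.diagonalSubgroup F) :
    h * h' = h' * h := by
  obtain ⟨c, -, hhc⟩ := Cfsg.Agent.S1034.mem_diagonalSubgroup_torus D hD h hh
  obtain ⟨c', -, hhc'⟩ := Cfsg.Agent.S1034.mem_diagonalSubgroup_torus D hD h' hh'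
  apply Units.ext
  rw [Units.val_mul, Units.val_mul, hhc, hhc', Matrix.diagonal_mul_diagonal, Matrix.diagonal_mul_diagonal]
  congr 1
  funext j
  exact mul_comm _ _

/-- A `σ`-fixed element of the group is a product of an element of the group generated by the `σ`-fixed root
elements and a `σ`-fixed element of `H`. -/
theorem fixed_decomp (C : ChevData.{v} D) (L : LevelData D) (hlex : lexOK D = true) (hbez : bezOK D = true)
    (g : GL D.Idx F) (hg : g ∈ D.group F) (hfix : glMap D σ g = g) :
    ∃ l ∈ fixedRootGroup D σ, ∃ h ∈ D.diagonalSubgroup F, glMap D σ h = h ∧ g = l * h := by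
  obtain ⟨b, hb, ws, hws, u, hu, rfl⟩ := exists_bruhat_form_nW hD C L g hg
  rw [map_mul, map_mul, glMap_nW hD C C] at hfix
  have hb' : glMap D σ b ∈ D.borelSubgroup F := map_borel_le σ (Subgroup.mem_map_of_mem _ hb)
  have hu' : glMap D σ u ∈ Subgroup.closure (UnegSet D F (nW hD C ws)) :=
    map_UnegSet_le σ _ (Subgroup.mem_map_of_mem _ hu)
  have hN := nW_mem_monomial (F := F) hD C ws
  obtain ⟨hbfix, hufix⟩ := (bruhat_form_unique hD C _ _ _ _ _ _ hb' hb hN hN hu' hu hfix).2 rfl
  obtain ⟨u₁, hu₁, h, hh, rfl⟩ := (mem_borel_iff D hD b).mp hb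
  rw [map_mul] at hbfix
  have hu₁' : glMap D σ u₁ ∈ D.posUnipotent F := map_posUnipotent_le σ (Subgroup.mem_map_of_mem _ hu₁)
  have hh' : glMap D σ h ∈ D.diagonalSubgroup F := map_diagonal_le σ (Subgroup.mem_map_of_mem _ hh)
  have hbot := (Cfsg.Agent.S1036.result (F := F) D hD).2
  have h1 : u₁⁻¹ * glMap D σ u₁ = h * (glMap D σ h)⁻¹ := by
    rw [inv_mul_eq_iff_eq_mul, ← mul_assoc, eq_mul_inv_iff_mul_eq]
    exact hbfix
  have h2 : u₁⁻¹ * glMap D σ u₁ ∈ D.posUnipotent F ⊓ D.diagonalSubgroup F := by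
    refine Subgroup.mem_inf.mpr ⟨mul_mem (inv_mem hu₁) hu₁', ?_⟩
    rw [h1]
    exact mul_mem hh (inv_mem hh')
  rw [hbot, Subgroup.mem_bot] at h2
  have hu₁fix : glMap D σ u₁ = u₁ := (inv_mul_eq_one.mp h2).symm
  have hhfix : glMap D σ h = h := by
    rw [h2] at h1
    exact (mul_inv_eq_one.mp h1.symm).symm
  have hu₁L := fixed_posUnipotent_mem hD σ C L hlex hbez u₁ hu₁ hu₁fix
  have huL := fixed_posUnipotent_mem hD σ C L hlex hbez u (closure_UnegSet_le D _ hu) hufix
  refine ⟨u₁ * (h * (nW hD C ws * u) * h⁻¹), mul_mem hu₁L (conj_mem_fixedRootGroup hD σ h hh hhfix _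
    (mul_mem (nW_mem_fixedRootGroup hD σ C ws) huL)), h, hh, hhfix, by group⟩

/-- The centralizer and the normalizer of a subgroup between the group generated by the `σ`-fixed root elements and the
group of `σ`-fixed points. -/
theorem normalizer_main (C : ChevData.{v} D) (L : LevelData D) (hlex : lexOK D = true) (hbez : bezOK D = true)
    (K : Subgroup (GL D.Idx F)) (hKG : K ≤ D.group F) (hLK : fixedRootGroup D σ ≤ K)
    (hKfix : ∀ g ∈ K, glMap D σ g = g) :
    D.group F ⊓ Subgroup.centralizer (K : Set (GL D.Idx F)) = ⊥ ∧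
      ∀ g ∈ D.group F, (g ∈ Subgroup.normalizer (K : Set (GL D.Idx F)) ↔ glMap D σ g = g) := by
  have hcent : ∀ g ∈ D.group F, (∀ y ∈ K, y * g = g * y) → g = 1 := by
    intro g hg hc
    apply eq_one_of_comm hD C L g hg
    intro r t ht
    have hσt : σ t = t := by
      rcases ht with rfl | rfl
      · exact map_one σ
      · rw [map_neg, map_one]
    exact hc _ (hLK (xG_mem_fixedRootGroup hD σ r t hσt))
  have key : ∀ g ∈ D.group F, glMap D σ g = g → ∀ y ∈ K, g * y * g⁻¹ ∈ K := by
    intro g hg hfix y hy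
    obtain ⟨l, hl, h, hh, hhfix, rfl⟩ := fixed_decomp hD σ C L hlex hbez g hg hfix
    obtain ⟨l', hl', h', hh', -, hyeq⟩ := fixed_decomp hD σ C L hlex hbez y (hKG hy) (hKfix y hy)
    have hcomm := diagonal_comm hD h h' hh hh'
    have e3 : h * h' * h⁻¹ = h' := by rw [hcomm, mul_inv_cancel_right]
    have e1 : l * h * (l' * h') * (l * h)⁻¹ = l * (h * l' * h⁻¹) * (h * h' * h⁻¹) * l⁻¹ := by group
    have e2 : l * (h * l' * h⁻¹) * h' * l⁻¹ = l * (h * l' * h⁻¹) * l'⁻¹ * (l' * h') * l⁻¹ := by group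
    rw [hyeq, e1, e3, e2, ← hyeq]
    exact mul_mem (mul_mem (mul_mem (mul_mem (hLK hl)
      (hLK (conj_mem_fixedRootGroup hD σ h hh hhfix l' hl'))) (inv_mem (hLK hl'))) hy) (inv_mem (hLK hl))
  constructor
  · rw [eq_bot_iff]
    rintro g ⟨hg, hc⟩
    rw [Subgroup.mem_bot]
    exact hcent g hg (Subgroup.mem_centralizer_iff.mp hc)
  · intro g hg
    constructor
    · intro hn
      rw [Subgroup.mem_normalizer_iff] at hn
      have hσg : glMap D σ g ∈ D.group F := map_group_le σ (Subgroup.mem_map_of_mem _ hg)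
      have h1 : g⁻¹ * glMap D σ g = 1 := by
        apply hcent _ (mul_mem (inv_mem hg) hσg)
        intro y hy
        have hz := (hn y).mp hy
        have h2 := hKfix _ hz
        rw [map_mul, map_mul, map_inv, hKfix y hy] at h2
        have h3 : y * g⁻¹ = g⁻¹ * (glMap D σ g * y * (glMap D σ g)⁻¹) := by rw [h2]; group
        rw [← mul_assoc, h3]
        group
      exact (inv_mul_eq_one.mp h1).symm
    · intro hfix
      rw [Subgroup.mem_normalizer_iff]
      intro y
      constructor
      · exact key g hg hfix y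
      · intro hy
        have hginv : glMap D σ g⁻¹ = g⁻¹ := by rw [map_inv, hfix]
        have h1 := key g⁻¹ (inv_mem hg) hginv _ hy
        have e : g⁻¹ * (g * y * g⁻¹) * g⁻¹⁻¹ = y := by group
        rwa [e] at h1

end Normalizer

end Cfsg.Agent.Lib.Helper69.SubfieldNorm
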